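import Groth.Agent.RibbonDualLib.Main
import Groth.Agent.PicH1Lib.SqLES
import Groth.Agent.PicH1Lib.Lift
import Groth.Agent.VertChiLib.PicTorsion
import Groth.Agent.VBP1Lib.Twist

/-!
# The Picard group of a ribbon on the line
-/

set_option autoImplicit false
set_option linter.style.haveILetI false
set_option linter.unusedSectionVars false
set_option backward.isDefEq.respectTransparency false
set_option backward.isDefEq.respectTransparency.types false
set_option maxHeartbeats 1000000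

universe u

open CategoryTheory CategoryTheory.Limits AlgebraicGeometry
open Groth.Agent

noncomputable section

namespace RibbonPicLib

/-- A split exact sequence with quotient `ℤ`. -/
theorem exists_equiv_prod {A : Type*} {B : Type*} [AddCommGroup A] [AddCommGroup B] (α : B →+ A) (δ : A →+ ℤ)
    (hα : Function.Injective α) (hker : ∀ c, δ c = 0 ↔ c ∈ α.range) (hs : ∃ c₁, δ c₁ = 1) :
    ∃ φ : A ≃+ B × ℤ, ∀ c, (φ c).2 = δ c := by
  obtain ⟨c₁, hc₁⟩ := hs
  let ψ : B × ℤ →+ A := α.coprod (zmultiplesHom _ c₁)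
  have hψδ : ∀ p, δ (ψ p) = p.2 := fun p => by
    rw [show ψ p = α p.1 + p.2 • c₁ from rfl, map_add, (hker _).2 ⟨p.1, rfl⟩, map_zsmul, hc₁, zero_add,
      smul_eq_mul, mul_one]
  have hψ : Function.Bijective ψ := by
    refine ⟨(injective_iff_map_eq_zero ψ).2 fun p hp => ?_, fun c => ?_⟩
    · have h0 : p.2 = 0 := by rw [← hψδ p, hp, map_zero]
      rw [show ψ p = α p.1 + p.2 • c₁ from rfl, h0, zero_smul, add_zero] at hp
      exact Prod.ext (hα (hp.trans (map_zero α).symm)) h0
    · obtain ⟨x, hx⟩ := (hker (c - δ c • c₁)).1 (by rw [map_sub, map_zsmul, hc₁, smul_eq_mul, mul_one, sub_self])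
      exact ⟨(x, δ c), by rw [show ψ (x, δ c) = α x + δ c • c₁ from rfl, hx, sub_add_cancel]⟩
  refine ⟨(AddEquiv.ofBijective ψ hψ).symm, fun c => ?_⟩
  rw [← hψδ]
  exact congrArg δ ((AddEquiv.ofBijective ψ hψ).apply_symm_apply c)

section Line

variable (k : Type u) [Field k]

attribute [local instance] RibbonDualLib.pLineOver

theorem surjective_toGlobal_line : Function.Surjective (Coh.toGlobal (CohB1.ProjSpace.toSpec 1 k)) := by
  intro v
  let P := CohB1.ProjSpace 1 k
  let x1 := (DegPullLib.e0 (Coh.structureModule P)).symm (show Γ(Coh.structureModule P, ⊤) from (1 : Γ(P, ⊤)))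
  have hne : x1 ≠ 0 := by
    intro h
    have h1 : (1 : Γ(P, ⊤)) = 0 :=
      ((DegPullLib.e0 (Coh.structureModule P)).apply_symm_apply (show Γ(Coh.structureModule P, ⊤) from (1 : Γ(P, ⊤)))).symm.trans
        ((congrArg (DegPullLib.e0 (Coh.structureModule P)) h).trans (map_zero _))
    haveI : Nonempty P := ⟨GenusZeroLib.genPt k 1⟩
    exact one_ne_zero h1
  obtain ⟨c, hc⟩ := (finrank_eq_one_iff_of_nonzero' x1 hne).1 (VBP1Lib.h0_structure k)
    ((DegPullLib.e0 (Coh.structureModule P)).symm (show Γ(Coh.structureModule P, ⊤) from v))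
  refine ⟨c, ?_⟩
  have h2 : DegPullLib.e0 (Coh.structureModule P) (c • x1) = v :=
    (congrArg (DegPullLib.e0 (Coh.structureModule P)) hc).trans ((DegPullLib.e0 (Coh.structureModule P)).apply_symm_apply _)
  rw [← h2]
  refine Eq.trans ?_ (DegPullLib.e0_smul (Coh.structureModule P) (Coh.toGlobal (CohB1.ProjSpace.toSpec 1 k) c) x1).symm
  rw [show DegPullLib.e0 (Coh.structureModule P) x1 = (show Γ(Coh.structureModule P, ⊤) from (1 : Γ(P, ⊤))) from
    (DegPullLib.e0 (Coh.structureModule P)).apply_symm_apply _]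
  exact (mul_one _).symm

theorem finrank_twist (g : ℕ) :
    Module.finrank k (Coh.HH (CohB1.ProjSpace 1 k) (Twist.twistProjSpace 1 k (-((g : ℤ) + 1))) 1) = g := by
  have h := Groth.Agent.S17660.euler_line k (-((g : ℤ) + 1))
  rw [CurvLib.euler_eq_sum (k := k) (d := 2) fun q hq =>
    PnCohLib.subsingleton_HH_twist (n := 1) (R := k) _ q (by omega) (by omega), Finset.sum_range_succ,
    Finset.sum_range_one, RibbonDualLib.h0_twist_of_neg k _ (by omega)] at h
  push_cast at h
  omega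

variable {D : Scheme.{u}} [D.Over (Spec (CommRingCat.of k))] [IsProper (D ↘ Spec (CommRingCat.of k))]
  (e : D ≅ CohB1.ProjSpace 1 k)
  (he : e.hom ≫ CohB1.ProjSpace.toSpec 1 k = D ↘ Spec (CommRingCat.of k))

include he in
theorem surjective_toGlobal_iso : Function.Surjective (Coh.toGlobal (D ↘ Spec (CommRingCat.of k))) := by
  intro v
  obtain ⟨c, hc⟩ := surjective_toGlobal_line k (e.inv.appTop v)
  refine ⟨c, ?_⟩
  have h1 : (D ↘ Spec (CommRingCat.of k)).appTop = (e.hom ≫ CohB1.ProjSpace.toSpec 1 k).appTop := by rw [he]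
  refine (congr($h1 ((Scheme.ΓSpecIso (CommRingCat.of k)).inv c))).trans ?_
  rw [Scheme.Hom.comp_appTop, CommRingCat.comp_apply]
  refine (congrArg e.hom.appTop hc).trans ?_
  rw [← CommRingCat.comp_apply, ← Scheme.Hom.comp_appTop, Iso.hom_inv_id]
  rfl

include he in
theorem deg_pullback_iso {M : (CohB1.ProjSpace 1 k).Modules} (hM : PicF.IsInvertible M) :
    Curv2.deg k D ((Scheme.Modules.pullback e.hom).obj M) 1 = Curv2.deg k (CohB1.ProjSpace 1 k) M 1 := by
  have hk : ∀ N : (CohB1.ProjSpace 1 k).Modules, ClSub.KilledByIdeal e.hom.ker N := fun N U a ha m => by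
    rw [Scheme.Hom.ker_apply, RingHom.mem_ker] at ha
    rw [(ConcreteCategory.bijective_of_isIso (e.hom.app U.1)).1 (ha.trans (map_zero _).symm), zero_smul]
  have key : ∀ N : (CohB1.ProjSpace 1 k).Modules, PicF.IsInvertible N →
      Curv2.euler k D ((Scheme.Modules.pullback e.hom).obj N) = Curv2.euler k (CohB1.ProjSpace 1 k) N := fun N hN => by
    haveI := (CurvLib.isCoh_of_isInvertible (AmpleDevLib.isInvertible_pb e.hom hN)).1
    exact (PushLinLib.euler_push k e.hom he ((Scheme.Modules.pullback e.hom).obj N)).2.trans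
      (CurvLib.euler_congr (k := k) (CycKSuppLib.pushPullIso e.hom (CycKSuppLib.kil_of_killed e.hom (hk N))))
  have h0 := key _ (CurvLib.isInvertible_structureModule (X := CohB1.ProjSpace 1 k))
  rw [CurvLib.euler_congr (k := k) (KFlatLib.pullUnitIso e.hom)] at h0
  rw [Curv2.deg, Curv2.deg, key M hM, h0]

include he in
theorem trivial_of_deg_zero {A : D.Modules} (hA : PicF.IsInvertible A) (h : Curv2.deg k D A 1 = 0) :
    Nonempty (A ≅ Coh.structureModule D) := by
  let M := (Scheme.Modules.pullback e.inv).obj A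
  have hM : PicF.IsInvertible M := AmpleDevLib.isInvertible_pb e.inv hA
  obtain ⟨q⟩ := Groth.Agent.S17660.invPullIso e.symm A
  have h4 : Curv2.deg k (CohB1.ProjSpace 1 k) M 1 = 0 :=
    (deg_pullback_iso k e he hM).symm.trans ((CurvLib.deg_congr (k := k) q 1).trans h)
  obtain ⟨z⟩ := VBP1Lib.iso_structure_of_deg_zero k hM h4
  exact ⟨q.symm ≪≫ (Scheme.Modules.pullback e.hom).mapIso z ≪≫ KFlatLib.pullUnitIso e.hom⟩

end Line

section Ribbon

variable {k : Type u} [Field k] {C : Scheme.{u}} [C.Over (Spec (CommRingCat.of k))]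
  {I : C.IdealSheafData} [I.subscheme.Over (Spec (CommRingCat.of k))]
  [IsProper (I.subscheme ↘ Spec (CommRingCat.of k))]

/-- The degree on the reduced curve, as a homomorphism. -/
theorem exists_degHom [IsIntegral I.subscheme] (hdim : topologicalKrullDim I.subscheme = 1) [PicGrp.Law C] :
    ∃ δ : Additive (PicLoc.PicSet C) →+ ℤ, ∀ (L : C.Modules) (hL : PicF.IsInvertible L),
      δ (Additive.ofMul (PicGrp.cls L hL)) =
        Curv2.deg k I.subscheme ((Scheme.Modules.pullback I.subschemeι).obj L) 1 := by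
  choose L hL hc using fun c : PicLoc.PicSet C => PicGrp.exists_eq_cls c
  refine ⟨AddMonoidHom.mk' (fun c => Curv2.deg k I.subscheme ((Scheme.Modules.pullback I.subschemeι).obj (L c.toMul)) 1)
    fun a b => ?_, fun M hM => ?_⟩
  · obtain ⟨i⟩ : Nonempty (L (a + b).toMul ≅ CohB1.tensorMod (L a.toMul) (L b.toMul)) := by
      rw [← PicGrp.cl_eq_cl_iff, ← PicGrp.cls_mul_cls_val (hL _) (hL _), ← hc, ← hc, ← PicGrp.cls_val _ (hL _),
        ← hc]
      rfl
    obtain ⟨p⟩ := BlowPtLib.nonempty_pb_tensor I.subschemeι (L a.toMul) (L b.toMul)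
    rw [CurvLib.deg_congr (k := k) ((Scheme.Modules.pullback I.subschemeι).mapIso i ≪≫ p) 1]
    exact GenusZeroLib.deg_tensor k hdim (AmpleDevLib.isInvertible_pb _ (hL _)) (AmpleDevLib.isInvertible_pb _ (hL _))
  · obtain ⟨i⟩ := (PicGrp.cls_eq_cls_iff _ _).1 (hc (PicGrp.cls M hM))
    exact (CurvLib.deg_congr (k := k) ((Scheme.Modules.pullback I.subschemeι).mapIso i) 1).symm

theorem surjective_resUnits (hov : I.subschemeι ≫ (C ↘ Spec (CommRingCat.of k)) = I.subscheme ↘ Spec (CommRingCat.of k))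
    (hs : Function.Surjective (Coh.toGlobal (I.subscheme ↘ Spec (CommRingCat.of k)))) [Nonempty I.subscheme] :
    Function.Surjective (PicH1Lib.resUnits I) := by
  intro v
  obtain ⟨x₀⟩ := ‹Nonempty I.subscheme›
  haveI : Nontrivial Γ(I.subscheme, ⊤) := (I.subscheme.presheaf.germ ⊤ x₀ trivial).hom.domain_nontrivial
  obtain ⟨c, hc⟩ := hs v.1
  have hc0 : c ≠ 0 := fun h => v.ne_zero (hc.symm.trans (h ▸ map_zero _))
  refine ⟨((IsUnit.mk0 c hc0).map (Coh.toGlobal (C ↘ Spec (CommRingCat.of k)))).unit, Units.ext ?_⟩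
  refine Eq.trans ?_ hc
  have h1 : (I.subscheme ↘ Spec (CommRingCat.of k)).appTop =
      (C ↘ Spec (CommRingCat.of k)).appTop ≫ I.subschemeι.appTop := by rw [← hov, Scheme.Hom.comp_appTop]
  exact (congr($h1 ((Scheme.ΓSpecIso (CommRingCat.of k)).inv c))).symm

theorem injective_alpha (hI2 : I * I = ⊥) [PicGrp.Law C] [PicGrp.Law I.subscheme]
    (hres : Function.Surjective (PicH1Lib.resUnits I)) :
    Function.Injective (MonoidHom.toAdditiveRight (PicH1Lib.alphaHom hI2)) := by
  refine (injective_iff_map_eq_zero _).2 fun x hx => ?_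
  have h1 : Multiplicative.ofAdd x ∈ (PicH1Lib.alphaHom hI2).ker := congrArg Additive.toMul hx
  rw [PicH1Lib.ker_alphaHom] at h1
  obtain ⟨v, hv⟩ := h1
  have h2 : v ∈ (PicH1Lib.delta₀ hI2).ker := by rw [PicH1Lib.ker_delta₀]; exact hres v
  rw [MonoidHom.mem_ker] at h2
  rw [h2] at hv
  exact congrArg Multiplicative.toAdd hv.symm

theorem mem_range_alpha (hI2 : I * I = ⊥) [PicGrp.Law C] [PicGrp.Law I.subscheme] (c : Additive (PicLoc.PicSet C)) :
    c ∈ (MonoidHom.toAdditiveRight (PicH1Lib.alphaHom hI2)).range ↔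
      c.toMul ∈ (PicGrp.pullHom I.subschemeι (VertChiLib.pullMul I.subschemeι)).ker := by
  rw [PicH1Lib.ker_pullHom hI2]
  exact ⟨fun ⟨x, hx⟩ => ⟨Multiplicative.ofAdd x, congrArg Additive.toMul hx⟩,
    fun ⟨x, hx⟩ => ⟨x.toAdd, congrArg Additive.ofMul hx⟩⟩

theorem exists_pic_equiv [IsProper (C ↘ Spec (CommRingCat.of k))] (hI2 : I * I = ⊥) (hC : topologicalKrullDim C = 1)
    (hov : I.subschemeι ≫ (C ↘ Spec (CommRingCat.of k)) = I.subscheme ↘ Spec (CommRingCat.of k))
    (e : I.subscheme ≅ CohB1.ProjSpace 1 k)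
    (he : e.hom ≫ CohB1.ProjSpace.toSpec 1 k = I.subscheme ↘ Spec (CommRingCat.of k))
    [IsIntegral I.subscheme] (hdim : topologicalKrullDim I.subscheme = 1) [PicGrp.Law C] :
    ∃ φ : Additive (PicLoc.PicSet C) ≃+ Coh.HH C (ClSub.idealMod I) 1 × ℤ,
      ∀ (L : C.Modules) (hL : PicF.IsInvertible L),
        (φ (Additive.ofMul (PicGrp.cls L hL))).2 =
          Curv2.deg k I.subscheme ((Scheme.Modules.pullback I.subschemeι).obj L) 1 := by
  letI : PicGrp.Law I.subscheme := VertChiLib.picLaw _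
  haveI := CurvLib.isNoetherian k (X := C)
  obtain ⟨δ, hδ⟩ := exists_degHom (k := k) (C := C) (I := I) hdim
  let α := MonoidHom.toAdditiveRight (PicH1Lib.alphaHom hI2)
  have hker : ∀ c, δ c = 0 ↔ c ∈ α.range := fun c => by
    obtain ⟨L, hL, hc⟩ := PicGrp.exists_eq_cls c.toMul
    have hc' : c = Additive.ofMul (PicGrp.cls L hL) := hc
    subst hc'
    rw [mem_range_alpha hI2, toMul_ofMul, MonoidHom.mem_ker, PicGrp.pullHom_cls, PicGrp.cls_eq_one_iff, hδ]
    refine ⟨fun h => trivial_of_deg_zero k e he (AmpleDevLib.isInvertible_pb _ hL) h, fun ⟨i⟩ => ?_⟩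
    rw [CurvLib.deg_congr (k := k) i 1, Curv2.deg]
    push_cast
    ring
  have h2 : Subsingleton (Coh.HH C (ClSub.idealMod I.subschemeι.ker) 2) :=
    CurvLib.subsingleton_HH_of_dim_le _ (d := 1) hC.le 2 (by omega)
  obtain ⟨L, hL, ⟨i⟩⟩ := PicH1Lib.exists_pullback_iso I.subschemeι (by rw [I.ker_subschemeι]; exact hI2) h2
    (AmpleDevLib.isInvertible_pb e.hom (PicPnLib.twist_inv 1 k 1))
  have hc₁ : δ (Additive.ofMul (PicGrp.cls L hL)) = 1 := by
    rw [hδ, CurvLib.deg_congr (k := k) i 1, deg_pullback_iso k e he (PicPnLib.twist_inv 1 k 1)]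
    exact VBP1Lib.deg_twist k 1
  obtain ⟨φ, hφ⟩ := exists_equiv_prod α δ (injective_alpha hI2
    (surjective_resUnits hov (surjective_toGlobal_iso k e he))) hker ⟨_, hc₁⟩
  exact ⟨φ, fun L hL => (hφ _).trans (hδ L hL)⟩

end Ribbon

end RibbonPicLib
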